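import Mathlib.RingTheory.Flat.Basic
import Mathlib.RingTheory.Flat.Tensor
import Mathlib.RingTheory.TensorProduct.Basic
import Mathlib.LinearAlgebra.TensorProduct.RightExactness
import Mathlib.LinearAlgebra.TensorProduct.Tower
import Mathlib.Algebra.Module.Torsion.Basic
import Mathlib.RingTheory.Ideal.Maps

/-!
# Vanishing of the first Tor, without Tor

`Tor1Zero R M Q`: for every module `B` and submodule `A` with `B ⧸ A ≅ Q`, the map
`M ⊗ A → M ⊗ B` is injective.
-/

universe u v

open TensorProduct

namespace Groth.Agent.Lib.LocalFlat.Basic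

section

variable (R : Type u) [CommRing R] (M : Type v) [AddCommGroup M] [Module R M]

/-- `Tor_1(M, Q) = 0`, phrased without Tor. -/
def Tor1Zero (Q : Type u) [AddCommGroup Q] [Module R Q] : Prop :=
  ∀ (A B : Type u) [AddCommGroup A] [Module R A] [AddCommGroup B] [Module R B]
    (f : A →ₗ[R] B) (g : B →ₗ[R] Q), Function.Injective f → Function.Exact f g →
    Function.Surjective g → Function.Injective (f.lTensor M)

variable {R M}

theorem Tor1Zero.of_equiv {Q Q' : Type u} [AddCommGroup Q] [Module R Q] [AddCommGroup Q'] [Module R Q']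
    (h : Tor1Zero R M Q) (e : Q ≃ₗ[R] Q') : Tor1Zero R M Q' := by
  intro A B _ _ _ _ f g hf hfg hg
  refine h A B f (e.symm.toLinearMap.comp g) hf ?_ (e.symm.surjective.comp hg)
  intro b
  simpa using hfg b

theorem Tor1Zero.of_free_presentation {Q K F : Type u} [AddCommGroup Q] [Module R Q]
    [AddCommGroup K] [Module R K] [AddCommGroup F] [Module R F] [Module.Projective R F]
    (i : K →ₗ[R] F) (p : F →ₗ[R] Q) (hip : Function.Exact i p) (hp : Function.Surjective p)
    (hinj : Function.Injective (i.lTensor M)) : Tor1Zero R M Q := by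
  intro A B _ _ _ _ f g hf hfg hg
  obtain ⟨ψ, hψ⟩ := Module.projective_lifting_property g p hg
  -- the surjection `A × F → B`
  let h : A × F →ₗ[R] B := f.coprod ψ
  have hK : ∀ k, ψ (i k) ∈ LinearMap.range f := fun k => by
    have : g (ψ (i k)) = 0 := by
      rw [← LinearMap.comp_apply, hψ]
      exact hip.apply_apply_eq_zero k
    exact (hfg _).1 this
  -- `K → A`
  let j : K →ₗ[R] A := (LinearEquiv.ofInjective f hf).symm.toLinearMap.comp
    ((ψ.comp i).codRestrict (LinearMap.range f) hK)
  have hj : ∀ k, f (j k) = ψ (i k) := fun k => by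
    have := (LinearEquiv.ofInjective f hf).apply_symm_apply
      (((ψ.comp i).codRestrict (LinearMap.range f) hK) k)
    exact congrArg Subtype.val this
  let l : K →ₗ[R] A × F := (-j).prod i
  have hex : Function.Exact l h := by
    intro x
    constructor
    · intro hx
      have hx' : f x.1 + ψ x.2 = 0 := hx
      have : p x.2 = 0 := by
        have := congrArg g hx'
        rw [map_add, map_zero, hfg.apply_apply_eq_zero, zero_add, ← LinearMap.comp_apply, hψ] at this
        exact this
      obtain ⟨k, hk⟩ := (hip _).1 this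
      refine ⟨k, Prod.ext ?_ hk⟩
      apply hf
      show f (-(j k)) = f x.1
      rw [map_neg, hj, hk]
      exact neg_eq_of_add_eq_zero_left hx'
    · rintro ⟨k, rfl⟩
      show f (-(j k)) + ψ (i k) = 0
      simp [hj]
  have hsurj : Function.Surjective h := by
    intro b
    obtain ⟨x, hx⟩ := hp (g b)
    have : g (b - ψ x) = 0 := by
      rw [map_sub, ← LinearMap.comp_apply g ψ, hψ, hx, sub_self]
    obtain ⟨a, ha⟩ := (hfg _).1 this
    exact ⟨(a, x), by show f a + ψ x = b; rw [ha]; abel⟩
  rw [injective_iff_map_eq_zero]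
  intro x hx
  have h1 : h.lTensor M ((LinearMap.inl R A F).lTensor M x) = 0 := by
    rw [← LinearMap.comp_apply, ← LinearMap.lTensor_comp]
    simpa [h] using hx
  obtain ⟨y, hy⟩ := ((lTensor_exact M hex hsurj) _).1 h1
  have hy1 : i.lTensor M y = 0 := by
    have := congrArg ((LinearMap.snd R A F).lTensor M) hy
    simpa [← LinearMap.comp_apply, ← LinearMap.lTensor_comp, l] using this
  have : y = 0 := hinj (by rw [hy1, map_zero])
  subst this
  have := congrArg ((LinearMap.fst R A F).lTensor M) hy
  simpa [← LinearMap.comp_apply, ← LinearMap.lTensor_comp, l] using this.symm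

theorem Tor1Zero.extension {Q' Q Q'' : Type u} [AddCommGroup Q'] [Module R Q'] [AddCommGroup Q]
    [Module R Q] [AddCommGroup Q''] [Module R Q''] (a : Q' →ₗ[R] Q) (b : Q →ₗ[R] Q'')
    (ha : Function.Injective a) (hab : Function.Exact a b) (hb : Function.Surjective b)
    (h' : Tor1Zero R M Q') (h'' : Tor1Zero R M Q'') : Tor1Zero R M Q := by
  intro A B _ _ _ _ f g hf hfg hg
  let A' : Submodule R B := LinearMap.ker (b.comp g)
  have hfA' : ∀ x, f x ∈ A' := fun x => by simp [A', hfg.apply_apply_eq_zero]
  let f₁ : A →ₗ[R] A' := f.codRestrict A' hfA'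
  have hgA : ∀ x : A', g x.1 ∈ LinearMap.range a := fun x =>
    (hab _).1 (LinearMap.mem_ker.1 x.2)
  let g₁ : A' →ₗ[R] Q' := (LinearEquiv.ofInjective a ha).symm.toLinearMap.comp
    ((g.comp A'.subtype).codRestrict (LinearMap.range a) hgA)
  have hg₁ : ∀ x : A', a (g₁ x) = g x.1 := fun x => by
    have := (LinearEquiv.ofInjective a ha).apply_symm_apply
      (((g.comp A'.subtype).codRestrict (LinearMap.range a) hgA) x)
    exact congrArg Subtype.val this
  have e1 : Function.Injective (f₁.lTensor M) := by
    refine h' A A' f₁ g₁ (fun x y hxy => hf (congrArg Subtype.val hxy)) ?_ ?_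
    · intro x
      constructor
      · intro hx
        obtain ⟨w, hw⟩ := (hfg x.1).1 (by rw [← hg₁, hx, map_zero])
        exact ⟨w, Subtype.ext hw⟩
      · rintro ⟨w, rfl⟩
        apply ha
        rw [hg₁, map_zero]
        exact hfg.apply_apply_eq_zero w
    · intro q
      obtain ⟨w, hw⟩ := hg (a q)
      refine ⟨⟨w, by simp [A', hw, hab.apply_apply_eq_zero]⟩, ?_⟩
      apply ha
      rw [hg₁]
      exact hw
  have e2 : Function.Injective (A'.subtype.lTensor M) :=
    h'' A' B A'.subtype (b.comp g) A'.injective_subtype (LinearMap.exact_subtype_ker_map _)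
      (hb.comp hg)
  have : f = A'.subtype.comp f₁ := by ext; rfl
  rw [this, LinearMap.lTensor_comp]
  exact e2.comp e1

/-- For a flat module every `Tor1` vanishes. -/
theorem Tor1Zero.of_flat [Module.Flat R M] (Q : Type u) [AddCommGroup Q] [Module R Q] :
    Tor1Zero R M Q := by
  intro A B _ _ _ _ f g hf _ _
  exact Module.Flat.lTensor_preserves_injective_linearMap f hf

theorem Tor1Zero.ideal_quotient {J : Ideal R} (h : Function.Injective (J.subtype.lTensor M)) :
    Tor1Zero R M (R ⧸ J) :=
  .of_free_presentation J.subtype J.mkQ (LinearMap.exact_subtype_mkQ J) J.mkQ_surjective h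

theorem Tor1Zero.injective_subtype {J : Ideal R} (h : Tor1Zero R M (R ⧸ J)) :
    Function.Injective (J.subtype.lTensor M) :=
  h J R J.subtype J.mkQ J.injective_subtype (LinearMap.exact_subtype_mkQ J) J.mkQ_surjective

theorem flat_of_tor1Zero (h : ∀ J : Ideal R, J.FG → Tor1Zero R M (R ⧸ J)) : Module.Flat R M :=
  Module.Flat.iff_lTensor_injective.2 fun J hJ => (h J hJ).injective_subtype

end

/-- If `A ⊗[R] M` is flat over `A`, tensoring with `M` over `R` preserves injective maps of
`A`-modules. -/
theorem lTensor_injective_of_baseChange_flat {R : Type u} [CommRing R] {A : Type*} [CommRing A]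
    [Algebra R A] (M : Type v) [AddCommGroup M] [Module R M] [Module.Flat A (A ⊗[R] M)]
    {N N' : Type*} [AddCommGroup N] [Module R N] [Module A N] [IsScalarTower R A N]
    [AddCommGroup N'] [Module R N'] [Module A N'] [IsScalarTower R A N']
    (f : N →ₗ[A] N') (hf : Function.Injective f) :
    Function.Injective ((f.restrictScalars R).lTensor M) := by
  let c := TensorProduct.AlgebraTensorModule.cancelBaseChange R A A N M
  let c' := TensorProduct.AlgebraTensorModule.cancelBaseChange R A A N' M
  have key : (f.restrictScalars R).rTensor M ∘ c = c' ∘ f.rTensor (A ⊗[R] M) := by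
    funext x
    induction x using TensorProduct.induction_on with
    | zero => simp
    | add x y hx hy => simp only [Function.comp_apply, map_add] at *; rw [hx, hy]
    | tmul n am =>
      induction am using TensorProduct.induction_on with
      | zero => simp
      | tmul a m => simp [c, c']
      | add x y hx hy =>
        simp only [Function.comp_apply, tmul_add, map_add] at *; rw [hx, hy]
  have h1 : Function.Injective (f.rTensor (A ⊗[R] M)) :=
    Module.Flat.rTensor_preserves_injective_linearMap f hf
  have h2 : Function.Injective ((f.restrictScalars R).rTensor M ∘ c) := by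
    rw [key]; exact c'.injective.comp h1
  have h3 : Function.Injective ((f.restrictScalars R).rTensor M) :=
    h2.of_comp_right c.surjective
  rw [← LinearMap.comm_comp_rTensor_comp_comm_eq]
  simpa using h3

section Quotient

variable {R : Type u} [CommRing R] {M : Type v} [AddCommGroup M] [Module R M] {I : Ideal R}

/-- The `R ⧸ I`-submodule of an `R ⧸ I`-module with the same elements as an `R`-submodule. -/
def liftSubmodule {N : Type*} [AddCommGroup N] [Module R N] [Module (R ⧸ I) N]
    [IsScalarTower R (R ⧸ I) N] (p : Submodule R N) : Submodule (R ⧸ I) N where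
  toAddSubmonoid := p.toAddSubmonoid
  smul_mem' := by
    intro c x hx
    obtain ⟨r, rfl⟩ := Ideal.Quotient.mk_surjective c
    show algebraMap R (R ⧸ I) r • x ∈ p
    rw [algebraMap_smul]
    exact p.smul_mem r hx

theorem lTensor_subtype_injective_of_flat_quotient [Module.Flat (R ⧸ I) ((R ⧸ I) ⊗[R] M)]
    {N : Type*} [AddCommGroup N] [Module R N] [Module (R ⧸ I) N] [IsScalarTower R (R ⧸ I) N]
    (p : Submodule R N) : Function.Injective (p.subtype.lTensor M) :=
  lTensor_injective_of_baseChange_flat (R := R) (A := R ⧸ I) M (liftSubmodule p).subtype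
    (liftSubmodule p).injective_subtype

/-- Injectivity for maps between modules killed by `I`. -/
theorem lTensor_injective_of_smul_eq_zero [Module.Flat (R ⧸ I) ((R ⧸ I) ⊗[R] M)]
    {N N' : Type*} [AddCommGroup N] [Module R N] [AddCommGroup N'] [Module R N']
    (f : N →ₗ[R] N') (hf : Function.Injective f) (hN' : ∀ r ∈ I, ∀ x : N', r • x = 0) :
    Function.Injective (f.lTensor M) := by
  have hT' : Module.IsTorsionBySet R N' I := fun x r => hN' r.1 r.2 x
  let _ : Module (R ⧸ I) N' := hT'.module
  have e : f = (LinearMap.range f).subtype.comp (LinearEquiv.ofInjective f hf).toLinearMap := by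
    ext; rfl
  rw [e, LinearMap.lTensor_comp]
  exact (lTensor_subtype_injective_of_flat_quotient (I := I) (LinearMap.range f)).comp
    (LinearEquiv.lTensor M _).injective

theorem lTensor_ker_subtype_injective [Module.Flat (R ⧸ I) ((R ⧸ I) ⊗[R] M)]
    (hI : Function.Injective (I.subtype.lTensor M)) {Q F : Type*} [AddCommGroup Q] [Module R Q]
    [AddCommGroup F] [Module R F] [Module.Flat R F] (p : F →ₗ[R] Q)
    (hQ : ∀ r ∈ I, ∀ x : Q, r • x = 0) : Function.Injective ((LinearMap.ker p).subtype.lTensor M) := by
  -- `I ⊗ F → K`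
  let μ : ↥I ⊗[R] F →ₗ[R] F :=
    (TensorProduct.lid R _).toLinearMap.comp (I.subtype.rTensor _)
  have hμK : ∀ x, μ x ∈ LinearMap.ker p := by
    intro x
    induction x using TensorProduct.induction_on with
    | zero => simp
    | add x y hx hy => simpa using add_mem hx hy
    | tmul r x => simp [μ, hQ r.1 r.2]
  let μ' := μ.codRestrict (LinearMap.ker p) hμK
  have hμinj : Function.Injective (μ.lTensor M) := by
    rw [LinearMap.lTensor_comp]
    refine (LinearEquiv.lTensor M (TensorProduct.lid R F)).injective.comp ?_
    have h1 : Function.Injective ((I.subtype.lTensor M).rTensor F) :=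
      Module.Flat.rTensor_preserves_injective_linearMap _ hI
    have key : (TensorProduct.assoc R M R F) ∘ (I.subtype.lTensor M).rTensor F =
        (I.subtype.rTensor F).lTensor M ∘ TensorProduct.assoc R M I F := by
      funext x
      induction x using TensorProduct.induction_on with
      | zero => simp
      | add x y hx hy => simp only [Function.comp_apply, map_add] at *; rw [hx, hy]
      | tmul a b =>
        induction a using TensorProduct.induction_on with
        | zero => simp
        | tmul m r => simp
        | add x y hx hy => simp only [Function.comp_apply, add_tmul, map_add] at *; rw [hx, hy]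
    have h2 : Function.Injective
        ((I.subtype.rTensor F).lTensor M ∘ TensorProduct.assoc R M I F) := by
      rw [← key]; exact (TensorProduct.assoc R M R F).injective.comp h1
    exact h2.of_comp_right (LinearEquiv.surjective _)
  let L : Submodule R (LinearMap.ker p) := LinearMap.range μ'
  rw [injective_iff_map_eq_zero]
  intro x hx
  -- modulo `L`
  have hLmap : L ≤ (LinearMap.range μ).comap (LinearMap.ker p).subtype := by
    rintro _ ⟨w, rfl⟩; exact ⟨w, rfl⟩
  let ι : (LinearMap.ker p ⧸ L) →ₗ[R] (F ⧸ LinearMap.range μ) :=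
    Submodule.mapQ L _ (LinearMap.ker p).subtype hLmap
  have hι : Function.Injective ι := by
    rw [injective_iff_map_eq_zero]
    intro y hy
    obtain ⟨y, rfl⟩ := Submodule.mkQ_surjective _ y
    simp only [ι, Submodule.mkQ_apply, Submodule.mapQ_apply, Submodule.Quotient.mk_eq_zero,
      Submodule.coe_subtype] at hy
    obtain ⟨w, hw⟩ := hy
    rw [Submodule.mkQ_apply, Submodule.Quotient.mk_eq_zero]
    exact ⟨w, Subtype.ext hw⟩
  have hιT : Function.Injective (ι.lTensor M) := by
    refine lTensor_injective_of_smul_eq_zero (I := I) ι hι ?_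
    intro r hr z
    obtain ⟨z, rfl⟩ := Submodule.mkQ_surjective _ z
    rw [← map_smul, Submodule.mkQ_apply, Submodule.Quotient.mk_eq_zero]
    exact ⟨⟨r, hr⟩ ⊗ₜ z, by simp [μ]⟩
  have hcomm : ι.comp L.mkQ = (LinearMap.range μ).mkQ.comp (LinearMap.ker p).subtype := rfl
  have h0 : L.mkQ.lTensor M x = 0 := by
    apply hιT
    rw [map_zero, ← LinearMap.comp_apply, ← LinearMap.lTensor_comp, hcomm, LinearMap.lTensor_comp,
      LinearMap.comp_apply, hx, map_zero]
  obtain ⟨y, rfl⟩ :=
    ((lTensor_exact M (LinearMap.exact_map_mkQ_range μ') L.mkQ_surjective) x).1 h0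
  have : μ.lTensor M y = 0 := by
    rw [← hx, ← LinearMap.comp_apply, ← LinearMap.lTensor_comp]; rfl
  rw [hμinj (this.trans (map_zero _).symm), map_zero]

theorem Tor1Zero.of_smul_eq_zero [Module.Flat (R ⧸ I) ((R ⧸ I) ⊗[R] M)]
    (hI : Function.Injective (I.subtype.lTensor M)) {Q : Type u} [AddCommGroup Q] [Module R Q]
    (hQ : ∀ r ∈ I, ∀ x : Q, r • x = 0) : Tor1Zero R M Q := by
  let p : (Q →₀ R) →ₗ[R] Q := Finsupp.linearCombination R id
  have hp : Function.Surjective p := Finsupp.linearCombination_id_surjective R Q
  exact Tor1Zero.of_free_presentation (K := LinearMap.ker p) (LinearMap.ker p).subtype p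
    (LinearMap.exact_subtype_ker_map p) hp (lTensor_ker_subtype_injective hI p hQ)

theorem Tor1Zero.of_pow_smul_eq_zero [Module.Flat (R ⧸ I) ((R ⧸ I) ⊗[R] M)]
    (hI : Function.Injective (I.subtype.lTensor M)) (n : ℕ) {Q : Type u} [AddCommGroup Q]
    [Module R Q] (hQ : ∀ r ∈ I ^ n, ∀ x : Q, r • x = 0) : Tor1Zero R M Q := by
  induction n generalizing Q with
  | zero =>
    refine .of_smul_eq_zero (I := I) hI fun r _ x => ?_
    have := hQ 1 (by simp) x
    rw [one_smul] at this
    rw [this, smul_zero]
  | succ n ih =>
    let Q' : Submodule R Q := I • ⊤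
    refine Tor1Zero.extension Q'.subtype Q'.mkQ Q'.injective_subtype (LinearMap.exact_subtype_mkQ Q')
      Q'.mkQ_surjective (ih ?_) (.of_smul_eq_zero (I := I) hI ?_)
    · rintro r hr ⟨x, hx⟩
      apply Subtype.ext
      show r • x = 0
      refine Submodule.smul_induction_on hx (fun a ha y _ => ?_) fun a b ha hb => by
        rw [smul_add, ha, hb, add_zero]
      rw [smul_smul]
      exact hQ _ (by rw [pow_succ]; exact Ideal.mul_mem_mul hr ha) y
    · intro r hr x
      obtain ⟨x, rfl⟩ := Submodule.mkQ_surjective _ x
      rw [← map_smul, Submodule.mkQ_apply, Submodule.Quotient.mk_eq_zero]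
      exact Submodule.smul_mem_smul hr Submodule.mem_top

end Quotient

end Groth.Agent.Lib.LocalFlat.Basic
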