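import Groth.Agent.Lib.LocalFlat.Criterion
import Mathlib.RingTheory.Localization.BaseChange

/-!
# Injectivity after tensoring, for localized modules
-/

universe u v

open TensorProduct

namespace Groth.Agent.Lib.LocalFlat.Localized

variable {R : Type*} [CommRing R] {S : Type*} [CommRing S] [Algebra R S]
  {M : Type*} [AddCommGroup M] [Module R M] [Module S M] [IsScalarTower R S M]
  {M' : Type*} [AddCommGroup M'] [Module R M'] [Module S M'] [IsScalarTower R S M']

theorem lTensor_injective_of_isLocalizedModule (W : Submonoid S) (g : M →ₗ[S] M')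
    [IsLocalizedModule W g] {N P : Type*} [AddCommGroup N] [Module R N] [AddCommGroup P] [Module R P]
    (f : N →ₗ[R] P) (hf : Function.Injective (f.lTensor M)) :
    Function.Injective (f.lTensor M') := by
  let gN : M ⊗[R] N →ₗ[S] M' ⊗[R] N := TensorProduct.AlgebraTensorModule.rTensor R N g
  let gP : M ⊗[R] P →ₗ[S] M' ⊗[R] P := TensorProduct.AlgebraTensorModule.rTensor R P g
  let fM : M ⊗[R] N →ₗ[S] M ⊗[R] P := TensorProduct.AlgebraTensorModule.lTensor S M f
  let fM' : M' ⊗[R] N →ₗ[S] M' ⊗[R] P := TensorProduct.AlgebraTensorModule.lTensor S M' f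
  have hcomm : ∀ y, fM' (gN y) = gP (fM y) := by
    intro y
    induction y using TensorProduct.induction_on with
    | zero => simp
    | add a b ha hb => simp only [map_add, ha, hb]
    | tmul m n => rfl
  rw [injective_iff_map_eq_zero]
  intro x hx
  obtain ⟨⟨y, s⟩, hy⟩ := IsLocalizedModule.surj W gN x
  have h0 : gP (fM y) = 0 := by
    rw [← hcomm, ← hy, Submonoid.smul_def, map_smul]
    show (s : S) • f.lTensor M' x = 0
    rw [hx, smul_zero]
  obtain ⟨t, ht⟩ := (IsLocalizedModule.eq_zero_iff W gP).1 h0
  have h1 : (t : S) • y = 0 := by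
    apply hf
    show fM ((t : S) • y) = _
    rw [map_smul, map_zero]
    exact ht
  have h2 : gN y = 0 := (IsLocalizedModule.eq_zero_iff W gN).2 ⟨t, h1⟩
  rw [h2, Submonoid.smul_def] at hy
  apply ((Module.End.isUnit_iff _).1 (IsLocalizedModule.map_units gN s)).1
  show (s : S) • x = (s : S) • (0 : M' ⊗[R] N)
  rw [hy, smul_zero]

end Groth.Agent.Lib.LocalFlat.Localized
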