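import Groth.Agent.Lib.LocalFlat.Basic

/-!
# Reduction modulo an ideal
-/

open TensorProduct

namespace Groth.Agent.Lib.LocalFlat.SmulTop

variable {R : Type*} [CommRing R] {M N : Type*} [AddCommGroup M] [Module R M] [AddCommGroup N]
  [Module R N]

/-- The canonical map `I ⊗ M → M`. -/
noncomputable def mulMap (I : Ideal R) (M : Type*) [AddCommGroup M] [Module R M] :
    I ⊗[R] M →ₗ[R] M :=
  (TensorProduct.lid R M).toLinearMap.comp (I.subtype.rTensor M)

theorem range_mulMap (I : Ideal R) : LinearMap.range (mulMap I M) = I • ⊤ := by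
  apply le_antisymm
  · rintro _ ⟨x, rfl⟩
    induction x using TensorProduct.induction_on with
    | zero => simp
    | add a b ha hb => rw [map_add]; exact add_mem ha hb
    | tmul r x => simpa [mulMap] using Submodule.smul_mem_smul r.2 Submodule.mem_top
  · rw [Submodule.smul_le]
    intro r hr x _
    exact ⟨⟨r, hr⟩ ⊗ₜ x, by simp [mulMap]⟩

theorem one_tmul_eq_zero_iff (I : Ideal R) (x : M) :
    (1 : R ⧸ I) ⊗ₜ[R] x = 0 ↔ x ∈ I • (⊤ : Submodule R M) := by
  constructor
  · intro hx
    obtain ⟨y, hy⟩ := ((rTensor_exact M (f := I.subtype) (g := I.mkQ) (LinearMap.exact_subtype_mkQ I)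
      I.mkQ_surjective) ((1 : R) ⊗ₜ x)).1 hx
    rw [← range_mulMap]
    exact ⟨y, by rw [mulMap, LinearMap.comp_apply, hy]; simp⟩
  · intro hx
    refine Submodule.smul_induction_on hx (fun r hr y _ => ?_) fun a b ha hb => by
      rw [tmul_add, ha, hb, add_zero]
    rw [← smul_tmul, Algebra.smul_def, mul_one, Ideal.Quotient.algebraMap_eq,
      Ideal.Quotient.eq_zero_iff_mem.2 hr, zero_tmul]

theorem lTensor_quotient_injective_iff (I : Ideal R) (u : N →ₗ[R] M) :
    Function.Injective (u.lTensor (R ⧸ I)) ↔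
      ∀ x, u x ∈ I • (⊤ : Submodule R M) → x ∈ I • (⊤ : Submodule R N) := by
  constructor
  · intro h x hx
    rw [← one_tmul_eq_zero_iff] at hx ⊢
    exact h (by rw [LinearMap.lTensor_tmul, hx, map_zero])
  · intro h
    rw [injective_iff_map_eq_zero]
    intro z hz
    obtain ⟨x, rfl⟩ := TensorProduct.mk_surjective R N (R ⧸ I) Ideal.Quotient.mk_surjective z
    rw [TensorProduct.mk_apply, LinearMap.lTensor_tmul, one_tmul_eq_zero_iff] at hz
    exact (one_tmul_eq_zero_iff I x).2 (h x hz)

/-- The kernel of a surjection onto a flat module is pure. -/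
theorem mem_smul_ker_of_flat [Module.Flat R M] {u : N →ₗ[R] M} (hu : Function.Surjective u)
    (I : Ideal R) {x : N} (hx : u x = 0) (hxI : x ∈ I • (⊤ : Submodule R N)) :
    (⟨x, hx⟩ : LinearMap.ker u) ∈ I • (⊤ : Submodule R (LinearMap.ker u)) := by
  rw [← range_mulMap] at hxI
  obtain ⟨z, hz⟩ := hxI
  have hinj : Function.Injective (mulMap I M) :=
    (TensorProduct.lid R M).injective.comp
      (Module.Flat.rTensor_preserves_injective_linearMap _ I.injective_subtype)
  have hnat : ∀ z, mulMap I M (u.lTensor I z) = u (mulMap I N z) := by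
    intro z
    induction z using TensorProduct.induction_on with
    | zero => simp
    | add a b ha hb => simp only [map_add, ha, hb]
    | tmul r y => simp [mulMap]
  have h0 : u.lTensor I z = 0 := hinj (by rw [hnat, hz, hx, map_zero])
  obtain ⟨w, hw⟩ := ((lTensor_exact (M := ↥(LinearMap.ker u)) I (LinearMap.exact_subtype_ker_map u) hu) z).1 h0
  have hnat' : ∀ w, mulMap I N ((LinearMap.ker u).subtype.lTensor I w) =
      (LinearMap.ker u).subtype (mulMap I (LinearMap.ker u) w) := by
    intro w
    induction w using TensorProduct.induction_on with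
    | zero => simp
    | add a b ha hb => simp only [map_add, ha, hb]
    | tmul r y => simp [mulMap]
  rw [← range_mulMap]
  refine ⟨w, Subtype.ext ?_⟩
  show ((LinearMap.ker u).subtype (mulMap I (LinearMap.ker u) w)) = x
  rw [← hnat', hw, hz]

theorem eq_zero_of_smul_top_eq_top {I : Ideal R} (hI : IsNilpotent I)
    (h : (⊤ : Submodule R M) ≤ I • ⊤) (x : M) : x = 0 := by
  obtain ⟨n, hn⟩ := hI
  have : ∀ k : ℕ, (⊤ : Submodule R M) ≤ I ^ k • ⊤ := by
    intro k
    induction k with
    | zero => simp
    | succ k ih =>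
      calc (⊤ : Submodule R M) ≤ I • ⊤ := h
        _ ≤ I • (I ^ k • ⊤) := Submodule.smul_mono le_rfl ih
        _ = I ^ (k + 1) • ⊤ := by rw [← Submodule.mul_smul, ← pow_succ']
  have := this n (Submodule.mem_top (x := x))
  rw [hn] at this
  simpa using this

theorem surjective_of_nilpotent {I : Ideal R} (hI : IsNilpotent I) (u : N →ₗ[R] M)
    (h : ∀ y, ∃ x, y - u x ∈ I • (⊤ : Submodule R M)) : Function.Surjective u := by
  intro y
  have := eq_zero_of_smul_top_eq_top (M := M ⧸ LinearMap.range u) hI ?_ ((LinearMap.range u).mkQ y)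
  · exact (Submodule.Quotient.mk_eq_zero _).1 this
  · intro z _
    obtain ⟨z, rfl⟩ := (LinearMap.range u).mkQ_surjective z
    obtain ⟨x, hx⟩ := h z
    have h' : (LinearMap.range u).mkQ z = (LinearMap.range u).mkQ (z - u x) := by
      rw [map_sub, (LinearMap.exact_map_mkQ_range u).apply_apply_eq_zero, sub_zero]
    rw [h']
    refine Submodule.smul_induction_on (p := fun w => (LinearMap.range u).mkQ w ∈ I • (⊤ : Submodule R (M ⧸ LinearMap.range u))) hx
      (fun r hr w _ => by rw [map_smul]; exact Submodule.smul_mem_smul hr Submodule.mem_top)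
      fun a b ha hb => by rw [map_add]; exact add_mem ha hb

theorem injective_of_nilpotent [Module.Flat R M] {I : Ideal R} (hI : IsNilpotent I) (u : N →ₗ[R] M)
    (hu : Function.Surjective u) (h : ∀ x, u x = 0 → x ∈ I • (⊤ : Submodule R N)) :
    Function.Injective u := by
  rw [← LinearMap.ker_eq_bot, Submodule.eq_bot_iff]
  intro x hx
  have := eq_zero_of_smul_top_eq_top (M := LinearMap.ker u) hI
    (fun z _ => mem_smul_ker_of_flat hu I z.2 (h z.1 z.2)) ⟨x, hx⟩
  exact congrArg Subtype.val this

end Groth.Agent.Lib.LocalFlat.SmulTop
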