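import Mathlib.RingTheory.Flat.EquationalCriterion
import Mathlib.RingTheory.LocalRing.Module
import Mathlib.LinearAlgebra.DirectSum.Finsupp
import Mathlib.LinearAlgebra.TensorProduct.Prod
import Mathlib.LinearAlgebra.FreeModule.Finite.Basic
import Mathlib.RingTheory.Finiteness.Prod
import Mathlib.RingTheory.Flat.Tensor

/-!
# Maps into flat modules that are injective modulo the maximal ideal
-/

universe u v w

open TensorProduct

namespace Groth.Agent.Lib.LocalFlat.UnivInjective

variable {R : Type u} [CommRing R]

theorem exists_finite_free_preimage {N : Type v} [AddCommGroup N] [Module R N] {K : Type w}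
    [AddCommGroup K] [Module R K] (z : N ⊗[R] K) :
    ∃ (n : ℕ) (ψ : (Fin n → R) →ₗ[R] N) (z' : (Fin n → R) ⊗[R] K), ψ.rTensor K z' = z := by
  obtain ⟨s, rfl⟩ := TensorProduct.exists_multiset z
  induction s using Multiset.induction_on with
  | empty => exact ⟨0, 0, 0, by simp⟩
  | cons a s ih =>
    obtain ⟨n, ψ, z', hz'⟩ := ih
    refine ⟨n + 1, (LinearMap.toSpanSingleton R N a.1).comp (LinearMap.proj 0) +
      ψ.comp (LinearMap.funLeft R R Fin.succ), Pi.single 0 1 ⊗ₜ a.2 +
      (LinearMap.rTensor K ((LinearMap.pi (Fin.cases 0 fun i => LinearMap.proj i)) :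
        (Fin n → R) →ₗ[R] (Fin (n + 1) → R))) z', ?_⟩
    rw [map_add, Multiset.map_cons, Multiset.sum_cons, ← hz', ← LinearMap.comp_apply,
      ← LinearMap.rTensor_comp]
    congr 1
    · rw [LinearMap.rTensor_tmul]
      congr 1
      have : LinearMap.funLeft R R Fin.succ (Pi.single 0 1 : Fin (n+1) → R) = 0 := by
        funext i; simp [LinearMap.funLeft_apply, Fin.succ_ne_zero]
      simp [this]
    · congr 2
      refine LinearMap.ext fun x => ?_
      simp only [LinearMap.add_comp, LinearMap.add_apply, LinearMap.comp_apply]
      have : LinearMap.funLeft R R Fin.succ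
          ((LinearMap.pi (Fin.cases 0 fun i => LinearMap.proj i) :
            (Fin n → R) →ₗ[R] (Fin (n + 1) → R)) x) = x := by
        funext i; simp [LinearMap.funLeft_apply]
      simp [this]

theorem rTensor_injective_of_finite_free [IsLocalRing R] {P : Type v} [AddCommGroup P] [Module R P]
    [Module.Free R P] [Module.Finite R P] {N : Type w} [AddCommGroup N] [Module R N] [Module.Flat R N]
    (φ : P →ₗ[R] N) (h : Function.Injective (φ.lTensor (IsLocalRing.ResidueField R)))
    (Q : Type*) [AddCommGroup Q] [Module R Q] : Function.Injective (φ.rTensor Q) := by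
  classical
  rw [injective_iff_map_eq_zero]
  intro x hx
  let p : (Q →₀ R) →ₗ[R] Q := Finsupp.linearCombination R id
  have hp : Function.Surjective p := Finsupp.linearCombination_id_surjective R Q
  obtain ⟨y, rfl⟩ := LinearMap.lTensor_surjective P hp x
  have h0 : p.lTensor N (φ.rTensor (Q →₀ R) y) = 0 := by
    rw [← hx]
    rw [← LinearMap.comp_apply, LinearMap.lTensor_comp_rTensor, ← LinearMap.comp_apply,
      LinearMap.rTensor_comp_lTensor]
  have hex : Function.Exact ⇑((LinearMap.ker p).subtype) ⇑p := by
    intro a
    refine ⟨fun ha => ⟨⟨a, ha⟩, rfl⟩, ?_⟩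
    rintro ⟨b, rfl⟩
    exact b.2
  obtain ⟨z, hz⟩ := ((lTensor_exact (M := ↥(LinearMap.ker p)) N hex hp) _).1 h0
  obtain ⟨n, ψ, z', rfl⟩ := exists_finite_free_preimage (K := ↥(LinearMap.ker p)) z
  let i := (LinearMap.ker p).subtype
  let Φ : P × (Fin n → R) →ₗ[R] N := φ.coprod (-ψ)
  let w : (P × (Fin n → R)) ⊗[R] (Q →₀ R) :=
    (LinearMap.inl R P (Fin n → R)).rTensor _ y +
      (LinearMap.inr R P (Fin n → R)).rTensor _ (i.lTensor _ z')
  have hw : Φ.rTensor _ w = 0 := by
    simp only [w, map_add, ← LinearMap.comp_apply (LinearMap.rTensor _ Φ), ← LinearMap.rTensor_comp]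
    have e1 : Φ.comp (LinearMap.inl R P (Fin n → R)) = φ := by simp [Φ]
    have e2 : Φ.comp (LinearMap.inr R P (Fin n → R)) = -ψ := by simp [Φ]
    rw [e1, e2, ← hz, LinearMap.rTensor_neg, LinearMap.neg_apply]
    have : ψ.rTensor (Q →₀ R) (i.lTensor _ z') = i.lTensor N (ψ.rTensor _ z') := by
      rw [← LinearMap.comp_apply, LinearMap.rTensor_comp_lTensor, ← LinearMap.comp_apply,
        LinearMap.lTensor_comp_rTensor]
    rw [this, add_neg_cancel]
  -- read off coordinates
  let e := TensorProduct.finsuppScalarRight R R (P × (Fin n → R)) Q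
  have natN : ∀ w, TensorProduct.finsuppScalarRight R R N Q (Φ.rTensor _ w) =
      Finsupp.mapRange Φ Φ.map_zero (e w) := by
    intro w
    induction w using TensorProduct.induction_on with
    | zero => simp
    | add a b ha hb => simp [map_add, ha, hb, Finsupp.mapRange_add]
    | tmul a g => ext q; simp [e]
  have hcoord : ∀ q, Φ (e w q) = 0 := fun q => by
    have := DFunLike.congr_fun (natN w) q
    rw [hw, map_zero] at this
    simpa using this.symm
  let S := (e w).support
  let f : (S → R) →ₗ[R] P × (Fin n → R) := Fintype.linearCombination R fun q : S => e w q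
  have hΦf : Φ.comp f = 0 := by
    refine LinearMap.ext fun r => ?_
    simp [f, Fintype.linearCombination_apply, map_sum, hcoord]
  obtain ⟨k, a, ψ', hΦ, haf⟩ := Module.Flat.exists_factorization_of_comp_eq_zero_of_free hΦf
  have hak : ∀ q, a (e w q) = 0 := fun q => by
    by_cases hq : q ∈ S
    · have := LinearMap.congr_fun haf (Pi.single ⟨q, hq⟩ 1)
      simpa [f, Fintype.linearCombination_apply, Pi.single_apply, ite_smul] using this
    · rw [Finsupp.notMem_support_iff.1 hq, map_zero]
  have natk : ∀ w, TensorProduct.finsuppScalarRight R R (Fin k →₀ R) Q (a.rTensor _ w) =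
      Finsupp.mapRange a a.map_zero (e w) := by
    intro w
    induction w using TensorProduct.induction_on with
    | zero => simp
    | add x y ha hb => simp [map_add, ha, hb, Finsupp.mapRange_add]
    | tmul x g => ext q; simp [e]
  have haw : a.rTensor _ w = 0 := by
    apply (TensorProduct.finsuppScalarRight R R (Fin k →₀ R) Q).injective
    rw [natk, map_zero]
    ext1 q
    simp [hak q]
  let a₁ := a.comp (LinearMap.inl R P (Fin n → R))
  have ha₁ : Function.Injective (a₁.lTensor (IsLocalRing.ResidueField R)) := by
    have : φ = ψ'.comp a₁ := by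
      rw [← LinearMap.comp_assoc, ← hΦ]; simp [Φ]
    rw [this, LinearMap.lTensor_comp] at h
    intro x y hxy
    exact h (congrArg (ψ'.lTensor (IsLocalRing.ResidueField R)) hxy)
  obtain ⟨r, hr⟩ := (IsLocalRing.split_injective_iff_lTensor_residueField_injective a₁).2 ha₁
  have : (r.comp a).rTensor _ w = 0 := by
    rw [LinearMap.rTensor_comp, LinearMap.comp_apply, haw, map_zero]
  simp only [w, map_add, ← LinearMap.comp_apply (LinearMap.rTensor _ (r.comp a)),
    ← LinearMap.rTensor_comp, LinearMap.comp_assoc] at this
  rw [hr, LinearMap.rTensor_id, LinearMap.id_apply, add_eq_zero_iff_eq_neg] at this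
  rw [this, map_neg, neg_eq_zero, ← LinearMap.comp_apply (LinearMap.lTensor _ p),
    LinearMap.lTensor_comp_rTensor, ← LinearMap.comp_apply, ← LinearMap.rTensor_comp_lTensor]
  simp only [LinearMap.comp_apply]
  rw [← LinearMap.comp_apply (LinearMap.lTensor _ p), ← LinearMap.lTensor_comp,
    show p.comp i = 0 from (LinearMap.exact_subtype_ker_map p).linearMap_comp_eq_zero,
    LinearMap.lTensor_zero, LinearMap.zero_apply, map_zero]

theorem rTensor_injective_of_free [IsLocalRing R] {F : Type v} [AddCommGroup F] [Module R F]
    [Module.Free R F] {N : Type w} [AddCommGroup N] [Module R N] [Module.Flat R N]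
    (u : F →ₗ[R] N) (h : Function.Injective (u.lTensor (IsLocalRing.ResidueField R)))
    (Q : Type*) [AddCommGroup Q] [Module R Q] : Function.Injective (u.rTensor Q) := by
  classical
  rw [injective_iff_map_eq_zero]
  intro x hx
  obtain ⟨s, hs⟩ := TensorProduct.exists_finset x
  let b := Module.Free.chooseBasis R F
  let t := s.biUnion fun z => (b.repr z.1).support
  -- projection to finitely many coordinates
  let ι : (t → R) →ₗ[R] F := Fintype.linearCombination R fun i : t => b i
  let π : F →ₗ[R] (t → R) := LinearMap.pi fun i : t => b.coord i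
  have hπι : π.comp ι = LinearMap.id := by
    refine LinearMap.ext fun r => ?_
    funext i
    simp [π, ι, Fintype.linearCombination_apply, map_sum, Finsupp.single_apply, Subtype.coe_inj]
  have hx' : ι.rTensor Q (π.rTensor Q x) = x := by
    rw [hs, map_sum, map_sum]
    refine Finset.sum_congr rfl fun z hz => ?_
    rw [LinearMap.rTensor_tmul, LinearMap.rTensor_tmul]
    congr 1
    apply b.repr.injective
    ext j
    by_cases hj : j ∈ t
    · simp [ι, π, Fintype.linearCombination_apply, map_sum, Finsupp.single_apply, hj]
    · have : b.repr z.1 j = 0 := by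
        by_contra hne
        exact hj (Finset.mem_biUnion.2 ⟨z, hz, Finsupp.mem_support_iff.2 hne⟩)
      rw [this]
      simp [ι, π, Fintype.linearCombination_apply, map_sum, Finsupp.single_apply, hj]
  have hinj : Function.Injective ((u.comp ι).lTensor (IsLocalRing.ResidueField R)) := by
    rw [LinearMap.lTensor_comp]
    refine h.comp ?_
    have : (π.lTensor (IsLocalRing.ResidueField R)).comp (ι.lTensor _) = LinearMap.id := by
      rw [← LinearMap.lTensor_comp, hπι, LinearMap.lTensor_id]
    exact Function.LeftInverse.injective (LinearMap.congr_fun this)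
  have := rTensor_injective_of_finite_free (u.comp ι) hinj Q (a₁ := π.rTensor Q x) (a₂ := 0)
    (by rw [LinearMap.rTensor_comp, LinearMap.comp_apply, hx', hx, map_zero])
  rw [← hx', this, map_zero]

theorem flat_prod {N : Type v} [AddCommGroup N] [Module R N] [Module.Flat R N]
    {N' : Type w} [AddCommGroup N'] [Module R N'] [Module.Flat R N'] : Module.Flat R (N × N') := by
  rw [Module.Flat.iff_rTensor_injective]
  intro I _
  have key : (TensorProduct.prodRight R R R N N') ∘ (I.subtype.rTensor (N × N')) =
      Prod.map (I.subtype.rTensor N) (I.subtype.rTensor N') ∘ TensorProduct.prodRight R R I N N' := by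
    funext x
    induction x using TensorProduct.induction_on with
    | zero => simp only [Function.comp_apply, map_zero, Prod.map_apply']; exact Prod.ext (map_zero _).symm (map_zero _).symm
    | add a b ha hb => simp only [Function.comp_apply, map_add] at *; rw [ha, hb]; exact Prod.ext (map_add _ _ _).symm (map_add _ _ _).symm
    | tmul r n => simp
  have h : Function.Injective (TensorProduct.prodRight R R R N N' ∘ I.subtype.rTensor (N × N')) := by
    rw [key]
    exact ((Module.Flat.rTensor_preserves_injective_linearMap _ I.injective_subtype).prodMap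
      (Module.Flat.rTensor_preserves_injective_linearMap _ I.injective_subtype)).comp
        (LinearEquiv.injective _)
  exact h.of_comp

theorem rTensor_injective_of_projective [IsLocalRing R] {M : Type v} [AddCommGroup M] [Module R M]
    [Module.Projective R M] {N : Type w} [AddCommGroup N] [Module R N] [Module.Flat R N]
    (u : M →ₗ[R] N) (h : Function.Injective (u.lTensor (IsLocalRing.ResidueField R)))
    (Q : Type*) [AddCommGroup Q] [Module R Q] : Function.Injective (u.rTensor Q) := by
  obtain ⟨s, hs⟩ := Module.projective_def.1 (inferInstance : Module.Projective R M)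
  let p : (M →₀ R) →ₗ[R] M := Finsupp.linearCombination R id
  have hps : p.comp s = LinearMap.id := LinearMap.ext hs
  -- `u ⊕ (1 - s p)` on the free module
  let q : (M →₀ R) →ₗ[R] (M →₀ R) := LinearMap.id - s.comp p
  let U : (M →₀ R) →ₗ[R] N × (M →₀ R) := (u.comp p).prod q
  have hU : Function.Injective (U.lTensor (IsLocalRing.ResidueField R)) := by
    rw [injective_iff_map_eq_zero]
    intro x hx
    have h1 : (u.comp p).lTensor _ x = 0 := by
      have := congrArg ((LinearMap.fst R N (M →₀ R)).lTensor (IsLocalRing.ResidueField R)) hx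
      simpa [← LinearMap.comp_apply, ← LinearMap.lTensor_comp, U] using this
    have h2 : q.lTensor _ x = 0 := by
      have := congrArg ((LinearMap.snd R N (M →₀ R)).lTensor (IsLocalRing.ResidueField R)) hx
      simpa [← LinearMap.comp_apply, ← LinearMap.lTensor_comp, U] using this
    rw [LinearMap.lTensor_comp, LinearMap.comp_apply] at h1
    have h3 : p.lTensor _ x = 0 := h (h1.trans (map_zero _).symm)
    rw [LinearMap.lTensor_sub, LinearMap.sub_apply, LinearMap.lTensor_comp, LinearMap.comp_apply, h3,
      map_zero, sub_zero, LinearMap.lTensor_id, LinearMap.id_apply] at h2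
    exact h2
  have := flat_prod (R := R) (N := N) (N' := M →₀ R)
  have := rTensor_injective_of_free U hU Q
  rw [injective_iff_map_eq_zero]
  intro x hx
  have hqs : q.comp s = 0 := by
    refine LinearMap.ext fun m => ?_
    have e1 : p (s m) = m := LinearMap.congr_fun hps m
    show s m - s (p (s m)) = 0
    rw [e1]; exact sub_self (s m)
  have h4 : U.comp s = (LinearMap.inl R N (M →₀ R)).comp u := by
    refine LinearMap.ext fun m => ?_
    have e1 := LinearMap.congr_fun hps m
    have e2 := LinearMap.congr_fun hqs m
    simp only [LinearMap.comp_apply, LinearMap.id_apply, LinearMap.zero_apply] at e1 e2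
    simp [U, e1, e2]
  have h5 : s.rTensor Q x = 0 := by
    apply this
    rw [← LinearMap.comp_apply, ← LinearMap.rTensor_comp, h4, LinearMap.rTensor_comp,
      LinearMap.comp_apply, hx, map_zero, map_zero]
  have h6 := congrArg (p.rTensor Q) h5
  rwa [← LinearMap.comp_apply, ← LinearMap.rTensor_comp, hps, LinearMap.rTensor_id, LinearMap.id_apply,
    map_zero] at h6

end Groth.Agent.Lib.LocalFlat.UnivInjective
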