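import Groth.Agent.Lib.LocalFlat.Criterion
import Mathlib.RingTheory.LocalRing.ResidueField.Basic
import Mathlib.LinearAlgebra.Basis.VectorSpace

/-!
# A map which is injective modulo the maximal ideal
-/

universe u v w

open TensorProduct

namespace Groth.Agent.Lib.LocalFlat.InjMod

open Groth.Agent.Lib.LocalFlat.Basic Groth.Agent.Lib.LocalFlat.Criterion

variable {R : Type u} [CommRing R]

/-- The canonical map `L ⊗ N → N` has range `L • ⊤`. -/
noncomputable def smulMap (L : Ideal R) (N : Type*) [AddCommGroup N] [Module R N] :
    L ⊗[R] N →ₗ[R] N :=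
  (TensorProduct.lid R N).toLinearMap.comp (L.subtype.rTensor N)

theorem range_smulMap (L : Ideal R) (N : Type*) [AddCommGroup N] [Module R N] :
    LinearMap.range (smulMap L N) = L • ⊤ := by
  apply le_antisymm
  · rintro _ ⟨x, rfl⟩
    induction x using TensorProduct.induction_on with
    | zero => simp
    | add a b ha hb => rw [map_add]; exact add_mem ha hb
    | tmul r x => simpa [smulMap] using Submodule.smul_mem_smul r.2 Submodule.mem_top
  · rw [Submodule.smul_le]
    intro r hr x _
    exact ⟨⟨r, hr⟩ ⊗ₜ x, by simp [smulMap]⟩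

theorem mem_smul_of_mkQ_rTensor_eq_zero (L : Ideal R) {M : Type*} [AddCommGroup M] [Module R M]
    {x : M} (hx : ((1 : R ⧸ L) ⊗ₜ[R] x) = 0) : x ∈ L • (⊤ : Submodule R M) := by
  have h : L.mkQ.rTensor M ((1 : R) ⊗ₜ x) = 0 := hx
  obtain ⟨y, hy⟩ := ((rTensor_exact M (LinearMap.exact_subtype_mkQ L) L.mkQ_surjective) _).1 h
  rw [← range_smulMap]
  exact ⟨y, by rw [smulMap, LinearMap.comp_apply, hy]; simp⟩

theorem lTensor_injective_of_smul_maximal [IsLocalRing R] {M : Type v} [AddCommGroup M] [Module R M]
    {N : Type w} [AddCommGroup N] [Module R N] (u : N →ₗ[R] M)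
    (h : Function.Injective (u.lTensor (IsLocalRing.ResidueField R)))
    {V : Type*} [AddCommGroup V] [Module R V] [Module (IsLocalRing.ResidueField R) V]
    [IsScalarTower R (IsLocalRing.ResidueField R) V] :
    Function.Injective (u.lTensor V) := by
  let k := IsLocalRing.ResidueField R
  let c := TensorProduct.AlgebraTensorModule.cancelBaseChange R k k V N
  let c' := TensorProduct.AlgebraTensorModule.cancelBaseChange R k k V M
  have key : u.lTensor V ∘ c = c' ∘ (u.baseChange k).lTensor V := by
    funext x
    induction x using TensorProduct.induction_on with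
    | zero => simp
    | add x y hx hy => simp only [Function.comp_apply, map_add] at *; rw [hx, hy]
    | tmul a b =>
      induction b using TensorProduct.induction_on with
      | zero => simp
      | tmul p q => simp [c, c']
      | add x y hx hy => simp only [Function.comp_apply, tmul_add, map_add] at *; rw [hx, hy]
  have h0 : Function.Injective ((u.baseChange k).lTensor V) :=
    Module.Flat.lTensor_preserves_injective_linearMap _
      (by rw [LinearMap.baseChange_eq_ltensor]; exact h)
  have h1 : Function.Injective (u.lTensor V ∘ c) := by rw [key]; exact c'.injective.comp h0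
  exact h1.of_comp_right c.surjective

variable [IsLocalRing R] {M : Type v} [AddCommGroup M] [Module R M] [Module.Flat R M]
  {N : Type w} [AddCommGroup N] [Module R N] (u : N →ₗ[R] M)
  (h : Function.Injective (u.lTensor (IsLocalRing.ResidueField R)))

include h in
theorem step {L L' : Ideal R} (hmL : IsLocalRing.maximalIdeal R * L ≤ L') {x : N}
    (hx : x ∈ L • (⊤ : Submodule R N)) (hux : u x ∈ L' • (⊤ : Submodule R M)) :
    x ∈ L' • (⊤ : Submodule R N) := by
  rw [← range_smulMap] at hx
  obtain ⟨z, rfl⟩ := hx
  let π : L →ₗ[R] R ⧸ L' := L'.mkQ.comp L.subtype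
  let V := ↥(LinearMap.range π)
  have hV : Module.IsTorsionBySet R V (IsLocalRing.maximalIdeal R) := by
    rintro ⟨v, ⟨w, rfl⟩⟩ ⟨r, hr⟩
    apply Subtype.ext
    show r • L'.mkQ (w : R) = 0
    rw [← map_smul, Submodule.mkQ_apply, Submodule.Quotient.mk_eq_zero, smul_eq_mul]
    exact hmL (Ideal.mul_mem_mul hr w.2)
  let _ : Module (IsLocalRing.ResidueField R) V := hV.module
  have : IsScalarTower R (IsLocalRing.ResidueField R) V := hV.isScalarTower
  have h1 : Function.Injective (u.lTensor V) := lTensor_injective_of_smul_maximal u h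
  have h2 : Function.Injective ((LinearMap.range π).subtype.rTensor M) :=
    Module.Flat.rTensor_preserves_injective_linearMap _ (Submodule.injective_subtype _)
  have h3 : π.rTensor M (u.lTensor L z) = 0 := by
    obtain ⟨w, hw⟩ := (range_smulMap L' M).symm ▸ hux
    have e : ∀ z : L ⊗[R] N, π.rTensor M (u.lTensor L z) =
        L'.mkQ.rTensor M ((TensorProduct.lid R M).symm (u (smulMap L N z))) := by
      intro z
      induction z using TensorProduct.induction_on with
      | zero => simp
      | add a b ha hb => simp only [map_add, ha, hb]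
      | tmul r y => simp [π, smulMap, TensorProduct.tmul_smul, TensorProduct.smul_tmul', ← Submodule.Quotient.mk_smul]
    rw [e z, ← hw]
    have e' : ∀ w : L' ⊗[R] M, (TensorProduct.lid R M).symm (smulMap L' M w) = L'.subtype.rTensor M w :=
      fun w => by simp [smulMap]
    rw [e']
    exact (rTensor_exact M (LinearMap.exact_subtype_mkQ L') L'.mkQ_surjective).apply_apply_eq_zero w
  have h4 : π.rangeRestrict.rTensor N z = 0 := by
    apply h1
    apply h2
    rw [map_zero, map_zero]
    refine Eq.trans ?_ h3
    clear h3 hux
    induction z using TensorProduct.induction_on with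
    | zero => simp
    | add a b ha hb => simp only [map_add, ha, hb]
    | tmul r y => simp
  obtain ⟨y, rfl⟩ := ((rTensor_exact N (g := π.rangeRestrict) (f := (LinearMap.ker π).subtype)
    (by rw [LinearMap.exact_iff, Submodule.range_subtype, LinearMap.ker_rangeRestrict])
    π.surjective_rangeRestrict) z).1 h4
  clear h3 h4 hux
  induction y using TensorProduct.induction_on with
  | zero => simp
  | add a b ha hb => simp only [map_add]; exact add_mem ha hb
  | tmul r y =>
    have : ((r : L) : R) ∈ L' :=
      (Submodule.Quotient.mk_eq_zero L').1 (LinearMap.mem_ker.1 r.2)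
    simpa [smulMap] using Submodule.smul_mem_smul this Submodule.mem_top

include h in
theorem mem_pow_sup_smul (J : Ideal R) (n : ℕ) {x : N} (hux : u x ∈ J • (⊤ : Submodule R M)) :
    x ∈ (IsLocalRing.maximalIdeal R ^ n ⊔ J) • (⊤ : Submodule R N) := by
  induction n with
  | zero => simp
  | succ n ih =>
    refine step u h ?_ ih (Submodule.smul_mono le_sup_right le_rfl hux)
    rw [Ideal.mul_sup, ← pow_succ']
    exact sup_le le_sup_left (le_sup_of_le_right Ideal.mul_le_right)

include h in
theorem mem_smul_of_map_mem (S : Type*) [CommRing S] [IsLocalRing S] [IsNoetherianRing S] [Algebra R S]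
  [IsLocalHom (algebraMap R S)] [Module S N] [IsScalarTower R S N] [Module.Finite S N]
    (J : Ideal R) {x : N} (hux : u x ∈ J • (⊤ : Submodule R M)) :
    x ∈ J • (⊤ : Submodule R N) := by
  let P : Submodule S N := J.map (algebraMap R S) • ⊤
  have h0 : P.mkQ x = 0 := by
    refine iInf_pow_smul_eq_bot_of_le_jacobson
      (map_le_jacobson_bot_of_isLocalHom (S := S) (I := IsLocalRing.maximalIdeal R)
        (IsLocalRing.maximalIdeal.isMaximal R).ne_top) fun n => ?_
    have hn := mem_pow_sup_smul u h J n hux
    refine Submodule.smul_induction_on (p := fun y => P.mkQ y ∈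
      (IsLocalRing.maximalIdeal R).map (algebraMap R S) ^ n • (⊤ : Submodule S (N ⧸ P))) hn ?_
      fun a b ha hb => by rw [map_add]; exact add_mem ha hb
    intro r hr y _
    obtain ⟨a, ha, b, hb, rfl⟩ := Submodule.mem_sup.1 hr
    have hb0 : P.mkQ (b • y) = 0 := by
      rw [Submodule.mkQ_apply, Submodule.Quotient.mk_eq_zero, ← algebraMap_smul S b y]
      exact Submodule.smul_mem_smul (Ideal.mem_map_of_mem _ hb) Submodule.mem_top
    rw [add_smul, map_add, hb0, add_zero, ← algebraMap_smul S a y, map_smul, ← Ideal.map_pow]
    exact Submodule.smul_mem_smul (Ideal.mem_map_of_mem _ ha) Submodule.mem_top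
  rw [Submodule.mkQ_apply, Submodule.Quotient.mk_eq_zero] at h0
  exact (Ideal.smul_restrictScalars J (⊤ : Submodule S N)).le h0

include h in
theorem injective_of_injective_mod (S : Type*) [CommRing S] [IsLocalRing S] [IsNoetherianRing S] [Algebra R S]
  [IsLocalHom (algebraMap R S)] [Module S N] [IsScalarTower R S N] [Module.Finite S N]
    : Function.Injective u := by
  rw [injective_iff_map_eq_zero]
  intro x hx
  have := mem_smul_of_map_mem u h S ⊥ (x := x) (by rw [hx]; exact Submodule.zero_mem _)
  simpa using this

include h in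
theorem flat_coker (S : Type*) [CommRing S] [IsLocalRing S] [IsNoetherianRing S] [Algebra R S]
  [IsLocalHom (algebraMap R S)] [Module S N] [IsScalarTower R S N] [Module.Finite S N]
    : Module.Flat R (M ⧸ LinearMap.range u) := by
  rw [Module.Flat.iff_rTensor_injective]
  intro J _
  rw [injective_iff_map_eq_zero]
  intro y hy
  obtain ⟨y, rfl⟩ := LinearMap.lTensor_surjective J (LinearMap.range u).mkQ_surjective y
  have hsq : ∀ y : J ⊗[R] M, (LinearMap.range u).mkQ (smulMap J M y) =
      smulMap J _ ((LinearMap.range u).mkQ.lTensor J y) := by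
    intro y
    induction y using TensorProduct.induction_on with
    | zero => simp
    | add a b ha hb => simp only [map_add, ha, hb]
    | tmul r y => simp [smulMap]
  have h0 : (LinearMap.range u).mkQ (smulMap J M y) = 0 := by
    rw [hsq, smulMap, LinearMap.comp_apply]
    erw [hy]
    exact map_zero _
  rw [Submodule.mkQ_apply, Submodule.Quotient.mk_eq_zero] at h0
  obtain ⟨n, hn⟩ := h0
  have hnJ : n ∈ J • (⊤ : Submodule R N) :=
    mem_smul_of_map_mem u h S J (by rw [hn, ← range_smulMap]; exact ⟨y, rfl⟩)
  rw [← range_smulMap] at hnJ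
  obtain ⟨z, hz⟩ := hnJ
  have hinj : Function.Injective (smulMap J M) :=
    (TensorProduct.lid R M).injective.comp
      (Module.Flat.rTensor_preserves_injective_linearMap _ J.injective_subtype)
  have hy' : y = u.lTensor J z := by
    apply hinj
    rw [← hn, ← hz]
    clear hz
    induction z using TensorProduct.induction_on with
    | zero => simp
    | add a b ha hb => simp only [map_add, ha, hb]
    | tmul r y => simp [smulMap]
  rw [hy', ← LinearMap.comp_apply, ← LinearMap.lTensor_comp,
    show (LinearMap.range u).mkQ.comp u = 0 from (LinearMap.exact_map_mkQ_range u).linearMap_comp_eq_zero]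
  simp

end Groth.Agent.Lib.LocalFlat.InjMod
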