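import Groth.Agent.Lib.LocalFlat.Basic
import Mathlib.RingTheory.Filtration
import Mathlib.RingTheory.TensorProduct.Finite
import Mathlib.RingTheory.LocalRing.RingHom.Basic

/-!
# The local criterion of flatness
-/

universe u v

open TensorProduct

namespace Groth.Agent.Lib.LocalFlat.Criterion

open Groth.Agent.Lib.LocalFlat.Basic

variable {R : Type u} [CommRing R] {S : Type*} [CommRing S] [Algebra R S]
  {M : Type v} [AddCommGroup M] [Module R M] [Module S M] [IsScalarTower R S M]

theorem iInf_pow_smul_eq_bot_of_le_jacobson [IsNoetherianRing S] {N : Type*} [AddCommGroup N]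
    [Module S N] [Module.Finite S N] {J : Ideal S} (hJ : J ≤ Ideal.jacobson ⊥) {x : N}
    (hx : ∀ n, x ∈ J ^ n • (⊤ : Submodule S N)) : x = 0 := by
  have : x ∈ (⨅ i : ℕ, J ^ i • ⊤ : Submodule S N) := Submodule.mem_iInf _ |>.2 hx
  obtain ⟨⟨r, hrJ⟩, hr⟩ := (Ideal.mem_iInf_smul_pow_eq_bot_iff J x).1 this
  have hu : IsUnit (1 - r) := by
    have := Ideal.mem_jacobson_bot.1 (hJ hrJ) (-1)
    simpa [sub_eq_neg_add] using this
  have : (1 - r) • x = 0 := by rw [sub_smul, one_smul, sub_eq_zero]; exact hr.symm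
  exact hu.smul_eq_zero.1 this

variable (S) in
/-- Local criterion of flatness, master form. -/
theorem flat_of_forall_pow [IsNoetherianRing R] [IsNoetherianRing S] [Module.Finite S M]
    (I : Ideal R) (hI : I.map (algebraMap R S) ≤ Ideal.jacobson ⊥)
    (hM : ∀ n, ∀ p : Submodule R (R ⧸ I ^ n), Function.Injective (p.subtype.lTensor M)) :
    Module.Flat R M := by
  rw [Module.Flat.iff_lTensor_injective]
  intro J _
  rw [injective_iff_map_eq_zero]
  intro x hx
  have : Module.Finite S (M ⊗[R] J) :=
    Module.Finite.equiv (TensorProduct.AlgebraTensorModule.cancelBaseChange R S S M J)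
  obtain ⟨k, hk⟩ := Ideal.exists_pow_inf_eq_pow_smul I J
  refine iInf_pow_smul_eq_bot_of_le_jacobson hI fun m => ?_
  let n := m + k
  let π : J →ₗ[R] R ⧸ I ^ n := (Submodule.mkQ (I ^ n)).comp J.subtype
  have h0 : π.rangeRestrict.lTensor M x = 0 := by
    apply hM n (LinearMap.range π)
    rw [map_zero, ← LinearMap.comp_apply, ← LinearMap.lTensor_comp,
      show (LinearMap.range π).subtype.comp π.rangeRestrict = π from rfl, LinearMap.lTensor_comp,
      LinearMap.comp_apply]
    erw [hx]
    exact map_zero _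
  obtain ⟨y, rfl⟩ := ((lTensor_exact M (g := π.rangeRestrict) (f := (LinearMap.ker π).subtype)
    (by rw [LinearMap.exact_iff, Submodule.range_subtype, LinearMap.ker_rangeRestrict])
    π.surjective_rangeRestrict) x).1 h0
  have hker : LinearMap.ker π ≤ I ^ m • (⊤ : Submodule R J) := by
    intro z hz
    have hz1 : (z : R) ∈ I ^ n • (⊤ : Submodule R R) ⊓ (J : Submodule R R) := by
      refine ⟨?_, z.2⟩
      have : (z : R) ∈ I ^ n := by simpa [π, Ideal.Quotient.eq_zero_iff_mem, Submodule.Quotient.mk_eq_zero] using hz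
      simpa using this
    rw [hk n (Nat.le_add_left k m), show n - k = m by omega] at hz1
    have hz2 : (z : R) ∈ (I ^ m • (⊤ : Submodule R J)).map J.subtype := by
      rw [Submodule.map_smul'', Submodule.map_top, Submodule.range_subtype]
      exact Submodule.smul_mono le_rfl inf_le_right hz1
    obtain ⟨w, hw, hwz⟩ := hz2
    rwa [← Subtype.ext hwz]
  -- the image lies in `(I S) ^ m • ⊤`
  clear h0 hx
  induction y using TensorProduct.induction_on with
  | zero => rw [map_zero]; exact Submodule.zero_mem _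
  | add a b ha hb => rw [map_add]; exact add_mem ha hb
  | tmul t z =>
    rw [LinearMap.lTensor_tmul]
    refine Submodule.smul_induction_on (p := fun w => t ⊗ₜ[R] w ∈
      (I.map (algebraMap R S)) ^ m • (⊤ : Submodule S (M ⊗[R] J))) (hker z.2) ?_ ?_
    · intro r hr w _
      rw [TensorProduct.tmul_smul, ← algebraMap_smul S r]
      refine Submodule.smul_mem_smul ?_ Submodule.mem_top
      rw [← Ideal.map_pow]
      exact Ideal.mem_map_of_mem _ hr
    · intro a b ha hb
      rw [TensorProduct.tmul_add]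
      exact add_mem ha hb

variable (S) in
/-- Local criterion of flatness: variant with an ideal `I`. -/
theorem flat_of_injective_of_flat_quotient [IsNoetherianRing R] [IsNoetherianRing S]
    [Module.Finite S M] (I : Ideal R) (hI : I.map (algebraMap R S) ≤ Ideal.jacobson ⊥)
    (h1 : Function.Injective (I.subtype.lTensor M))
    [Module.Flat (R ⧸ I) ((R ⧸ I) ⊗[R] M)] : Module.Flat R M := by
  refine flat_of_forall_pow S I hI fun n p => ?_
  have hT : Tor1Zero R M ((R ⧸ I ^ n) ⧸ p) := by
    refine Tor1Zero.of_pow_smul_eq_zero h1 n fun r hr x => ?_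
    obtain ⟨x, rfl⟩ := Submodule.mkQ_surjective _ x
    obtain ⟨y, rfl⟩ := Ideal.Quotient.mk_surjective x
    rw [← map_smul]
    have h0 : r • (Ideal.Quotient.mk (I ^ n) y) = 0 := by
      rw [Algebra.smul_def, Ideal.Quotient.algebraMap_eq, ← map_mul, Ideal.Quotient.eq_zero_iff_mem]
      exact Ideal.mul_mem_right _ _ hr
    rw [h0, map_zero]
  exact hT p (R ⧸ I ^ n) p.subtype p.mkQ p.injective_subtype (LinearMap.exact_subtype_mkQ p)
    p.mkQ_surjective

variable (S) in
/-- If all `M / I ^ n M` are flat over `R / I ^ n` then `M` is flat. -/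
theorem flat_of_flat_quotient_pow [IsNoetherianRing R] [IsNoetherianRing S]
    [Module.Finite S M] (I : Ideal R) (hI : I.map (algebraMap R S) ≤ Ideal.jacobson ⊥)
    (h : ∀ n, Module.Flat (R ⧸ I ^ n) ((R ⧸ I ^ n) ⊗[R] M)) : Module.Flat R M :=
  flat_of_forall_pow S I hI fun n p =>
    have := h n
    lTensor_subtype_injective_of_flat_quotient (I := I ^ n) p

theorem map_le_jacobson_bot [IsLocalRing S] {I : Ideal R} (hI : I.map (algebraMap R S) ≠ ⊤) :
    I.map (algebraMap R S) ≤ Ideal.jacobson ⊥ := by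
  rw [IsLocalRing.jacobson_eq_maximalIdeal ⊥ bot_ne_top]
  exact IsLocalRing.le_maximalIdeal hI

theorem map_le_jacobson_bot_of_isLocalHom [IsLocalRing R] [IsLocalRing S]
    [IsLocalHom (algebraMap R S)] {I : Ideal R} (hI : I ≠ ⊤) :
    I.map (algebraMap R S) ≤ Ideal.jacobson ⊥ := by
  rw [IsLocalRing.jacobson_eq_maximalIdeal ⊥ bot_ne_top]
  exact (Ideal.map_mono (IsLocalRing.le_maximalIdeal hI)).trans
    (IsLocalRing.map_maximalIdeal_le (algebraMap R S))

end Groth.Agent.Lib.LocalFlat.Criterion
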