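import Groth.Agent.Lib.LocalFlat.Criterion
import Mathlib.RingTheory.Flat.FaithfullyFlat.Basic
import Mathlib.RingTheory.LocalRing.Module
import Mathlib.RingTheory.TensorProduct.Quotient

/-!
# Fibrewise criterion of flatness
-/

universe u v

open TensorProduct

namespace Groth.Agent.Lib.LocalFlat.Fibre

open Groth.Agent.Lib.LocalFlat.Basic Groth.Agent.Lib.LocalFlat.Criterion

variable {R : Type*} [CommRing R] {S : Type u} [CommRing S] [Algebra R S]
  {M : Type v} [AddCommGroup M] [Module R M] [Module S M] [IsScalarTower R S M]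

variable (S) in
theorem lTensor_map_subtype_injective [Module.Flat R M] (I : Ideal R) :
    Function.Injective ((I.map (algebraMap R S)).subtype.lTensor M) := by
  let c : M →ₗ[R] I →ₗ[R] M ⊗[S] (I.map (algebraMap R S)) :=
    LinearMap.mk₂ R (fun m i => m ⊗ₜ[S] (⟨algebraMap R S i, Ideal.mem_map_of_mem _ i.2⟩ :
        ↥(I.map (algebraMap R S))))
      (fun a b i => add_tmul _ _ _)
      (fun r a i => by rw [← TensorProduct.smul_tmul'])
      (fun a i j => by
        rw [← tmul_add]; exact congrArg _ (Subtype.ext (map_add _ _ _)))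
      (fun r a i => by
        rw [← algebraMap_smul S r (a ⊗ₜ[S] _), ← tmul_smul]
        exact congrArg _ (Subtype.ext (map_mul _ _ _)))
  let θ := TensorProduct.lift c
  have hsurj : Function.Surjective θ := by
    intro y
    induction y using TensorProduct.induction_on with
    | zero => exact ⟨0, map_zero _⟩
    | add a b ha hb =>
      obtain ⟨a, rfl⟩ := ha; obtain ⟨b, rfl⟩ := hb; exact ⟨a + b, map_add _ _ _⟩
    | tmul m z =>
      obtain ⟨z, hz⟩ := z
      revert m
      refine Submodule.span_induction (p := fun z hz => ∀ m : M, ∃ w, θ w = m ⊗ₜ[S] (⟨z, hz⟩ : ↥(I.map (algebraMap R S)))) ?_ ?_ ?_ ?_ hz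
      · rintro _ ⟨i, hi, rfl⟩ m
        exact ⟨m ⊗ₜ ⟨i, hi⟩, rfl⟩
      · intro m
        exact ⟨0, by rw [map_zero]; exact (tmul_zero _ _).symm⟩
      · intro a b _ _ ha hb m
        obtain ⟨w, hw⟩ := ha m
        obtain ⟨w', hw'⟩ := hb m
        exact ⟨w + w', by rw [map_add, hw, hw', ← tmul_add]; rfl⟩
      · intro s a _ ha m
        obtain ⟨w, hw⟩ := ha (s • m)
        exact ⟨w, by rw [hw, smul_tmul]; rfl⟩
  have hcomp : ∀ x, TensorProduct.rid S M ((I.map (algebraMap R S)).subtype.lTensor M (θ x)) =
      TensorProduct.rid R M (I.subtype.lTensor M x) := by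
    intro x
    induction x using TensorProduct.induction_on with
    | zero => simp
    | add a b ha hb => simp only [map_add, ha, hb]
    | tmul m i => simp [θ, c]
  rw [injective_iff_map_eq_zero]
  intro y hy
  obtain ⟨x, rfl⟩ := hsurj y
  have : I.subtype.lTensor M x = 0 := by
    apply (TensorProduct.rid R M).injective
    rw [← hcomp, hy, map_zero, map_zero]
  have hx : x = 0 := Module.Flat.lTensor_preserves_injective_linearMap (R := R) (M := M) _
    I.injective_subtype (this.trans (map_zero _).symm)
  rw [hx, map_zero]

variable (S) in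
/-- Nilpotent fibre criterion. -/
theorem flat_of_nilpotent [Module.Flat R M] (I : Ideal R) (hI : IsNilpotent I)
    [Module.Flat (S ⧸ I.map (algebraMap R S)) ((S ⧸ I.map (algebraMap R S)) ⊗[S] M)] :
    Module.Flat S M := by
  obtain ⟨n, hn⟩ := hI
  refine flat_of_tor1Zero fun J _ => ?_
  refine Tor1Zero.of_pow_smul_eq_zero (lTensor_map_subtype_injective S I) n ?_
  intro r hr x
  rw [← Ideal.map_pow, hn, Ideal.zero_eq_bot, Ideal.map_bot, Ideal.mem_bot] at hr
  rw [hr, zero_smul]

theorem flat_of_flat_of_faithfullyFlat [Module.Flat R M] [Module.FaithfullyFlat S M] :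
    Module.Flat R S := by
  rw [Module.Flat.iff_rTensor_injective]
  intro J _
  have h1 : Function.Injective ((J.subtype.rTensor S).restrictScalars R) ↔
      Function.Injective (J.subtype.rTensor S) := Iff.rfl
  -- work with `S ⊗[R] J → S ⊗[R] R`, which is `S`-linear
  rw [← LinearMap.lTensor_inj_iff_rTensor_inj]
  let f : S ⊗[R] J →ₗ[S] S ⊗[R] R := J.subtype.baseChange S
  suffices Function.Injective f by
    rw [← LinearMap.baseChange_eq_ltensor]; exact this
  rw [← Module.FaithfullyFlat.lTensor_injective_iff_injective S M]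
  have key : J.subtype.lTensor M ∘ TensorProduct.AlgebraTensorModule.cancelBaseChange R S S M J =
      TensorProduct.AlgebraTensorModule.cancelBaseChange R S S M R ∘ f.lTensor M := by
    funext x
    induction x using TensorProduct.induction_on with
    | zero => simp
    | add x y hx hy => simp only [Function.comp_apply, map_add] at *; rw [hx, hy]
    | tmul a b =>
      induction b using TensorProduct.induction_on with
      | zero => simp
      | tmul p q => simp [f]
      | add x y hx hy => simp only [Function.comp_apply, tmul_add, map_add] at *; rw [hx, hy]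
  have h2 : Function.Injective
      (J.subtype.lTensor M ∘ TensorProduct.AlgebraTensorModule.cancelBaseChange R S S M J) :=
    (Module.Flat.lTensor_preserves_injective_linearMap _ J.injective_subtype).comp
      (LinearEquiv.injective _)
  rw [key] at h2
  exact h2.of_comp

theorem faithfullyFlat_of_finite {S' : Type*} [CommRing S'] [IsLocalRing S'] [IsLocalRing S]
    [Algebra S S'] [IsLocalHom (algebraMap S S')] [Module S' M] [IsScalarTower S S' M]
    [Module.Finite S' M] [Nontrivial M] [Module.Flat S M] : Module.FaithfullyFlat S M := by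
  refine { submodule_ne_top := fun {m} hm htop => ?_ }
  have hle : m ≤ IsLocalRing.maximalIdeal S := (IsLocalRing.eq_maximalIdeal hm).le
  have h1 : ((IsLocalRing.maximalIdeal S') • ⊤ : Submodule S' M) = ⊤ := by
    refine eq_top_iff.2 fun x _ => ?_
    have hx : x ∈ m • (⊤ : Submodule S M) := by rw [htop]; exact Submodule.mem_top
    refine Submodule.smul_induction_on (p := fun y => y ∈ (IsLocalRing.maximalIdeal S') • (⊤ : Submodule S' M)) hx ?_
      (fun a b => add_mem)
    intro r hr y _
    rw [← algebraMap_smul S' r y]
    refine Submodule.smul_mem_smul ?_ Submodule.mem_top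
    exact IsLocalRing.map_maximalIdeal_le (algebraMap S S') (Ideal.mem_map_of_mem _ (hle hr))
  refine Submodule.top_ne_ideal_smul_of_le_jacobson_annihilator (R := S') (M := M) ?_ h1.symm
  exact (IsLocalRing.maximalIdeal_le_jacobson _)

end Groth.Agent.Lib.LocalFlat.Fibre
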